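import Mathlib
import Groth.Prelude.Def_DTen

/-!
# The functor `N ↦ J N` on modules and complexes (helper35, for S13579)
-/

set_option autoImplicit false
universe u

open CategoryTheory CategoryTheory.Limits

namespace Groth.Agent.H35.LTP

variable {A : Type u} [CommRing A]

lemma map_mem_smul_top (J : Ideal A) {N N' : Type u} [AddCommGroup N] [Module A N]
    [AddCommGroup N'] [Module A N'] (f : N →ₗ[A] N') (x : N)
    (hx : x ∈ (J • ⊤ : Submodule A N)) : f x ∈ (J • ⊤ : Submodule A N') := by
  have h1 : f x ∈ Submodule.map f (J • ⊤) := ⟨x, hx, rfl⟩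
  rw [Submodule.map_smul''] at h1
  exact Submodule.smul_mono le_rfl le_top h1

/-- the functor `N ↦ J N` -/
noncomputable def ISub (J : Ideal A) : ModuleCat.{u} A ⥤ ModuleCat.{u} A where
  obj N := ModuleCat.of A ↥(J • (⊤ : Submodule A N))
  map {N N'} f := ModuleCat.ofHom (f.hom.restrict (fun x hx => map_mem_smul_top J f.hom x hx))
  map_id N := by
    ext x
    rfl
  map_comp f g := by
    ext x
    rfl

/-- the inclusion `J N ⟶ N` -/
noncomputable def ISubι (J : Ideal A) : ISub J ⟶ 𝟭 (ModuleCat.{u} A) where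
  app N := ModuleCat.ofHom (J • (⊤ : Submodule A N)).subtype
  naturality {N N'} f := by
    ext x
    rfl

instance (J : Ideal A) : (ISub J).Additive where
  map_add {N N' f g} := by
    ext x
    rfl

instance (J : Ideal A) (N : ModuleCat.{u} A) : Mono ((ISubι J).app N) :=
  (ModuleCat.mono_iff_injective _).2 (Submodule.injective_subtype _)

/-- `J N ⟶ J' N` for `J ≤ J'` -/
noncomputable def ISubLE {J J' : Ideal A} (h : J ≤ J') : ISub J ⟶ ISub J' where
  app N := ModuleCat.ofHom (Submodule.inclusion (Submodule.smul_mono_left h))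
  naturality {N N'} f := by
    ext x
    rfl

lemma ISubLE_ι {J J' : Ideal A} (h : J ≤ J') : ISubLE h ≫ ISubι J' = ISubι (A := A) J := by
  ext N x
  rfl

/-- `J'' N ⟶ J' (J N)` for `J'' ≤ J * J'`, as a linear map -/
noncomputable def facLin (J J' J'' : Ideal A) (h : J'' ≤ J * J') (N : Type u) [AddCommGroup N]
    [Module A N] :
    ↥(J'' • (⊤ : Submodule A N)) →ₗ[A] ↥(J' • (⊤ : Submodule A ↥(J • (⊤ : Submodule A N)))) :=
  LinearMap.codRestrict _
    (Submodule.inclusion (Submodule.smul_mono_left (h.trans Ideal.mul_le_left)) :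
      ↥(J'' • (⊤ : Submodule A N)) →ₗ[A] ↥(J • (⊤ : Submodule A N)))
    (fun x => by
      have h1 : (x : N) ∈ J' • (J • (⊤ : Submodule A N)) := by
        have h2 : (x : N) ∈ (J * J') • (⊤ : Submodule A N) := Submodule.smul_mono_left h x.2
        rw [mul_comm, mul_smul] at h2
        exact h2
      have h3 : J' • (J • (⊤ : Submodule A N)) =
          Submodule.map (J • (⊤ : Submodule A N)).subtype (J' • ⊤) := by
        rw [Submodule.map_smul'', Submodule.map_top, Submodule.range_subtype]
      rw [h3] at h1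
      obtain ⟨y, hy, hyx⟩ := h1
      have : y = Submodule.inclusion (Submodule.smul_mono_left (h.trans Ideal.mul_le_left)) x :=
        Subtype.ext hyx
      rw [← this]
      exact hy)

/-- `J'' N ⟶ J' (J N)` for `J'' ≤ J * J'` -/
noncomputable def ISubFac (J J' J'' : Ideal A) (h : J'' ≤ J * J') (N : ModuleCat.{u} A) :
    (ISub J'').obj N ⟶ (ISub J').obj ((ISub J).obj N) :=
  ModuleCat.ofHom (facLin J J' J'' h N)

lemma ISubFac_ι (J J' J'' : Ideal A) (h : J'' ≤ J * J') (N : ModuleCat.{u} A) :
    ISubFac J J' J'' h N ≫ (ISubι J').app ((ISub J).obj N) ≫ (ISubι J).app N =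
      (ISubι J'').app N := by
  ext x
  rfl

lemma ISubFac_naturality (J J' J'' : Ideal A) (h : J'' ≤ J * J') {N N' : ModuleCat.{u} A}
    (f : N ⟶ N') :
    (ISub J'').map f ≫ ISubFac J J' J'' h N' =
      ISubFac J J' J'' h N ≫ (ISub J').map ((ISub J).map f) := by
  ext x
  rfl

/-! ### complexes -/

/-- `K ↦ J K` on complexes -/
noncomputable abbrev ISubCx (J : Ideal A) : DRing.Cx A ⥤ DRing.Cx A :=
  (ISub J).mapHomologicalComplex (ComplexShape.up ℤ)

/-- the inclusion `J K ⟶ K` -/
noncomputable def ιCx (J : Ideal A) (K : DRing.Cx A) : (ISubCx J).obj K ⟶ K where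
  f i := (ISubι J).app (K.X i)
  comm' i j _ := (ISubι J).naturality (K.d i j)

@[reassoc]
lemma ιCx_naturality (J : Ideal A) {K L : DRing.Cx A} (f : K ⟶ L) :
    (ISubCx J).map f ≫ ιCx J L = ιCx J K ≫ f := by
  ext i : 1
  exact (ISubι J).naturality (f.f i)

/-- `J'' K ⟶ J' (J K)` -/
noncomputable def facCx (J J' J'' : Ideal A) (h : J'' ≤ J * J') (K : DRing.Cx A) :
    (ISubCx J'').obj K ⟶ (ISubCx J').obj ((ISubCx J).obj K) where
  f i := ISubFac J J' J'' h (K.X i)
  comm' i j _ := (ISubFac_naturality J J' J'' h (K.d i j)).symm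

lemma facCx_ι (J J' J'' : Ideal A) (h : J'' ≤ J * J') (K : DRing.Cx A) :
    facCx J J' J'' h K ≫ ιCx J' ((ISubCx J).obj K) ≫ ιCx J K = ιCx J'' K := by
  ext i : 1
  exact ISubFac_ι J J' J'' h (K.X i)

/-- `J K ⟶ J' K` for `J ≤ J'` -/
noncomputable def leCx {J J' : Ideal A} (h : J ≤ J') (K : DRing.Cx A) :
    (ISubCx J).obj K ⟶ (ISubCx J').obj K where
  f i := (ISubLE h).app (K.X i)
  comm' i j _ := (ISubLE h).naturality (K.d i j)

@[reassoc]
lemma leCx_ι {J J' : Ideal A} (h : J ≤ J') (K : DRing.Cx A) :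
    leCx h K ≫ ιCx J' K = ιCx J K := by
  ext i : 1
  exact congrArg (fun t => t.app (K.X i)) (ISubLE_ι h)

/-- compatibility with single complexes -/
lemma singleMap_ιCx (J : Ideal A) (a : ℤ) (M : ModuleCat.{u} A) :
    (HomologicalComplex.singleMapHomologicalComplex (ISub J) (ComplexShape.up ℤ) a).hom.app M ≫
      (HomologicalComplex.single (ModuleCat.{u} A) (ComplexShape.up ℤ) a).map ((ISubι J).app M) =
      ιCx J ((HomologicalComplex.single (ModuleCat.{u} A) (ComplexShape.up ℤ) a).obj M) := by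
  apply HomologicalComplex.hom_ext
  intro i
  by_cases hi : i = a
  · subst hi
    have h := (ISubι J).naturality
      (HomologicalComplex.singleObjXSelf (ComplexShape.up ℤ) i M).hom
    simp only [Functor.id_map] at h
    rw [HomologicalComplex.comp_f,
      HomologicalComplex.singleMapHomologicalComplex_hom_app_self,
      HomologicalComplex.single_map_f_self]
    show ((ISub J).map (HomologicalComplex.singleObjXSelf (ComplexShape.up ℤ) i M).hom ≫
        (HomologicalComplex.singleObjXSelf (ComplexShape.up ℤ) i ((ISub J).obj M)).inv) ≫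
      ((HomologicalComplex.singleObjXSelf (ComplexShape.up ℤ) i ((ISub J).obj M)).hom ≫
        (ISubι J).app M ≫ (HomologicalComplex.singleObjXSelf (ComplexShape.up ℤ) i M).inv) =
      (ISubι J).app (((HomologicalComplex.single (ModuleCat.{u} A) (ComplexShape.up ℤ) i).obj M).X i)
    rw [Category.assoc, Iso.inv_hom_id_assoc, reassoc_of% h, Iso.hom_inv_id, Category.comp_id]
  · apply (HomologicalComplex.isZero_single_obj_X (ComplexShape.up ℤ) a M i hi).eq_of_tgt

section SES

variable {C : Type*} [Category C] [Abelian C]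

lemma shortExact_of_isIso_f (T : ShortComplex C) (h : IsIso T.f) (h3 : IsZero T.X₃) :
    T.ShortExact where
  exact := (ShortComplex.exact_iff_epi T (h3.eq_of_tgt _ _)).2 inferInstance
  mono_f := inferInstance
  epi_g := ⟨fun _ _ _ => h3.eq_of_src _ _⟩

lemma shortExact_of_isIso_g (T : ShortComplex C) (h1 : IsZero T.X₁) (h : IsIso T.g) :
    T.ShortExact where
  exact := (ShortComplex.exact_iff_mono T (h1.eq_of_src _ _)).2 inferInstance
  mono_f := ⟨fun _ _ _ => h1.eq_of_tgt _ _⟩
  epi_g := inferInstance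

end SES

/-- additive termwise functors preserve short exact sequences of complexes which are, in each
degree, of the form `X ≅ X → 0` or `0 → X ≅ X` -/
lemma shortExact_map_of_trivial (Φ : ModuleCat.{u} A ⥤ ModuleCat.{u} A) [Φ.Additive]
    (S : ShortComplex (DRing.Cx A))
    (hS : ∀ i : ℤ, (IsIso (S.f.f i) ∧ IsZero (S.X₃.X i)) ∨ (IsZero (S.X₁.X i) ∧ IsIso (S.g.f i))) :
    (S.map (Φ.mapHomologicalComplex (ComplexShape.up ℤ))).ShortExact := by
  apply HomologicalComplex.shortExact_of_degreewise_shortExact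
  intro i
  rcases hS i with ⟨h1, h2⟩ | ⟨h1, h2⟩
  · refine shortExact_of_isIso_f _ ?_ ?_
    · show IsIso (Φ.map (S.f.f i))
      infer_instance
    · show IsZero (Φ.obj (S.X₃.X i))
      exact Φ.map_isZero h2
  · refine shortExact_of_isIso_g _ ?_ ?_
    · show IsZero (Φ.obj (S.X₁.X i))
      exact Φ.map_isZero h1
    · show IsIso (Φ.map (S.g.f i))
      infer_instance

end Groth.Agent.H35.LTP
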