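import Mathlib
import Groth.Agent.H35.LTP.ISub
import Groth.Agent.H35.LTI.CxLin
import Groth.Agent.H35.KFBounded

/-!
# The short exact sequence `0 → J K → K → K ⊗ (A/J)[0] → 0` of complexes (helper35, for S13579)
-/

set_option autoImplicit false
universe u

open CategoryTheory CategoryTheory.Limits MonoidalCategory TensorProduct

namespace Groth.Agent.H35.LTP

open Groth.Agent.H35.LTI

variable {A : Type u} [CommRing A]

section Module

variable (J : Ideal A) (N : Type u) [AddCommGroup N] [Module A N]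

/-- `N ⊗ (A ⧸ J • ⊤) ≃ N ⧸ J N` -/
noncomputable def tensorQuotEquiv :
    (N ⊗[A] (A ⧸ (J • ⊤ : Submodule A A))) ≃ₗ[A] N ⧸ (J • ⊤ : Submodule A N) :=
  (LinearEquiv.lTensor N (Submodule.quotEquivOfEq (J • ⊤ : Submodule A A) J
    (by rw [smul_eq_mul, Ideal.mul_top]))) ≪≫ₗ TensorProduct.tensorQuotEquivQuotSMul N J

lemma tensorQuotEquiv_tmul_mk_one (x : N) :
    tensorQuotEquiv J N (x ⊗ₜ[A] (Submodule.Quotient.mk (1 : A))) = Submodule.Quotient.mk x := by
  unfold tensorQuotEquiv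
  rw [LinearEquiv.trans_apply, LinearEquiv.lTensor_tmul, Submodule.quotEquivOfEq_mk]
  have := TensorProduct.tensorQuotEquivQuotSMul_tmul_mk (M := N) J x (1 : A)
  rw [one_smul] at this
  exact this

lemma tmul_mk_one_eq_zero_iff (x : N) :
    (x ⊗ₜ[A] (Submodule.Quotient.mk (1 : A) : A ⧸ (J • ⊤ : Submodule A A))) = 0 ↔
      x ∈ (J • ⊤ : Submodule A N) := by
  rw [← (tensorQuotEquiv J N).map_eq_zero_iff, tensorQuotEquiv_tmul_mk_one,
    Submodule.Quotient.mk_eq_zero]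

lemma exists_tmul_mk_one (z : N ⊗[A] (A ⧸ (J • ⊤ : Submodule A A))) :
    ∃ x : N, x ⊗ₜ[A] (Submodule.Quotient.mk (1 : A) : A ⧸ (J • ⊤ : Submodule A A)) = z := by
  obtain ⟨x, hx⟩ := Submodule.Quotient.mk_surjective _ (tensorQuotEquiv J N z)
  refine ⟨x, ?_⟩
  apply (tensorQuotEquiv J N).injective
  rw [tensorQuotEquiv_tmul_mk_one, hx]

end Module

section Complex

/-- the quotient module `A ⧸ J • ⊤` -/
abbrev BMod (J : Ideal A) : ModuleCat.{u} A := ModuleCat.of A (A ⧸ (J • ⊤ : Submodule A A))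

/-- `A ⟶ A ⧸ J` -/
noncomputable def πB (J : Ideal A) : 𝟙_ (ModuleCat.{u} A) ⟶ BMod J :=
  ModuleCat.ofHom (Submodule.mkQ _)

/-- `A ⟶ A ⧸ J` as a map of complexes -/
noncomputable def πBCx (J : Ideal A) : 𝟙_ (DRing.Cx A) ⟶ (S0 A).obj (BMod J) :=
  (S0 A).map (πB J)

variable (J : Ideal A) (K : DRing.Cx A)

/-- `K ⟶ K ⊗ (A/J)[0]` -/
noncomputable def qCx : K ⟶ K ⊗ (S0 A).obj (BMod J) := (ρ_ K).inv ≫ K ◁ πBCx J

lemma ιTensorObj_whiskerLeft_f (K L L' : DRing.Cx A) (φ : L ⟶ L') (p q n : ℤ) (h : p + q = n) :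
    HomologicalComplex.ιTensorObj K L p q n h ≫ (K ◁ φ).f n =
      (K.X p ◁ φ.f q) ≫ HomologicalComplex.ιTensorObj K L' p q n h := by
  have := HomologicalComplex.ι_mapBifunctorMap (𝟙 K) φ (curriedTensor (ModuleCat.{u} A))
    (ComplexShape.up ℤ) p q n h
  simp only [HomologicalComplex.id_f, CategoryTheory.Functor.map_id, NatTrans.id_app,
    Category.id_comp] at this
  exact this

/-- the iso `K^p ⊗ B ≅ (K ⊗ B[0])^p` -/
noncomputable def κ (B : ModuleCat.{u} A) (p : ℤ) : K.X p ⊗ B ⟶ (K ⊗ (S0 A).obj B).X p :=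
  (K.X p ◁ (HomologicalComplex.singleObjXSelf (ComplexShape.up ℤ) 0 B).inv) ≫
    HomologicalComplex.ιTensorObj K ((S0 A).obj B) p 0 p (add_zero p)

instance (B : ModuleCat.{u} A) (p : ℤ) : IsIso (κ K B p) := by
  have := Groth.Agent.H35.KF.isIso_ιMapBifunctor_of_isZero K ((S0 A).obj B) 0
    (fun q hq => HomologicalComplex.isZero_single_obj_X (ComplexShape.up ℤ) 0 B q hq) p p
    (add_zero p)
  have h2 : IsIso (HomologicalComplex.ιTensorObj K ((S0 A).obj B) p 0 p (add_zero p)) := this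
  unfold κ
  infer_instance

lemma qCx_f (p : ℤ) :
    (qCx J K).f p = (ρ_ (K.X p)).inv ≫ (K.X p ◁ πB J) ≫ κ K (BMod J) p := by
  unfold qCx κ
  rw [HomologicalComplex.comp_f]
  have h1 : (ρ_ K).inv.f p = (ρ_ (K.X p)).inv ≫
      ((K.X p) ◁ (HomologicalComplex.singleObjXSelf (ComplexShape.up ℤ) 0
        (𝟙_ (ModuleCat.{u} A))).inv) ≫
      HomologicalComplex.ιTensorObj K (𝟙_ (DRing.Cx A)) p 0 p (add_zero p) :=
    HomologicalComplex.rightUnitor'_inv K p
  rw [h1, Category.assoc, Category.assoc, ιTensorObj_whiskerLeft_f]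
  have h2 : (πBCx J).f 0 = (HomologicalComplex.singleObjXSelf (ComplexShape.up ℤ) 0
      (𝟙_ (ModuleCat.{u} A))).hom ≫ πB J ≫
      (HomologicalComplex.singleObjXSelf (ComplexShape.up ℤ) 0 (BMod J)).inv :=
    HomologicalComplex.single_map_f_self _ _ _
  rw [h2, ← MonoidalCategory.whiskerLeft_comp_assoc, Iso.inv_hom_id_assoc,
    MonoidalCategory.whiskerLeft_comp, Category.assoc]

/-- the element-level description of `x ↦ x ⊗ 1̄` -/
lemma rightUnitor_inv_whiskerLeft_πB_apply (N : ModuleCat.{u} A) (x : N) :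
    ((ρ_ N).inv ≫ (N ◁ πB J)).hom x =
      (x ⊗ₜ[A] (Submodule.Quotient.mk (1 : A) : A ⧸ (J • ⊤ : Submodule A A))) := rfl

/-- the short complex `J K ⟶ K ⟶ K ⊗ (A/J)[0]` -/
noncomputable def kSC : ShortComplex (DRing.Cx A) :=
  ShortComplex.mk (ιCx J K) (qCx J K) (by
    apply HomologicalComplex.hom_ext
    intro p
    rw [HomologicalComplex.comp_f, qCx_f, HomologicalComplex.zero_f]
    have h0 : (ιCx J K).f p ≫ (ρ_ (K.X p)).inv ≫ (K.X p ◁ πB J) = 0 := by
      ext x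
      have hx : ((ιCx J K).f p).hom x ∈ (J • ⊤ : Submodule A (K.X p)) := x.2
      exact (tmul_mk_one_eq_zero_iff J (K.X p) _).2 hx
    rw [← Category.assoc, ← Category.assoc, Category.assoc _ _ (K.X p ◁ πB J), h0, zero_comp])

lemma kSC_shortExact : (kSC J K).ShortExact := by
  apply HomologicalComplex.shortExact_of_degreewise_shortExact
  intro p
  have hf : Function.Injective ((ιCx J K).f p).hom := Submodule.injective_subtype _
  let φ : K.X p ⟶ K.X p ⊗ BMod J := (ρ_ (K.X p)).inv ≫ (K.X p ◁ πB J)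
  have hg : (qCx J K).f p = φ ≫ κ K (BMod J) p := by
    rw [qCx_f, Category.assoc]
  have hκ : Function.Bijective (κ K (BMod J) p).hom :=
    (ConcreteCategory.isIso_iff_bijective _).1 inferInstance
  refine ShortComplex.ShortExact.mk' ?_ ?_ ?_
  · rw [ShortComplex.ShortExact.moduleCat_exact_iff_function_exact]
    intro y
    show ((qCx J K).f p).hom y = 0 ↔ y ∈ Set.range ((ιCx J K).f p).hom
    rw [hg]
    constructor
    · intro h
      have h1 : (κ K (BMod J) p).hom (φ.hom y) = 0 := h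
      have h2 : φ.hom y = 0 := hκ.1 (h1.trans (map_zero _).symm)
      have h3 : y ∈ (J • ⊤ : Submodule A (K.X p)) :=
        (tmul_mk_one_eq_zero_iff J (K.X p) y).1 h2
      exact ⟨⟨y, h3⟩, rfl⟩
    · rintro ⟨x, rfl⟩
      have hx : ((ιCx J K).f p).hom x ∈ (J • ⊤ : Submodule A (K.X p)) := x.2
      have h2 : φ.hom (((ιCx J K).f p).hom x) = 0 :=
        (tmul_mk_one_eq_zero_iff J (K.X p) _).2 hx
      show (κ K (BMod J) p).hom (φ.hom (((ιCx J K).f p).hom x)) = 0
      rw [h2, map_zero]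
  · exact (ModuleCat.mono_iff_injective _).2 hf
  · rw [ModuleCat.epi_iff_surjective]
    intro z
    obtain ⟨w, hw⟩ := hκ.2 z
    obtain ⟨x, hx⟩ := exists_tmul_mk_one J (K.X p) w
    refine ⟨x, ?_⟩
    show ((qCx J K).f p).hom x = z
    rw [hg]
    show (κ K (BMod J) p).hom (φ.hom x) = z
    rw [← hw]
    exact congrArg _ hx

end Complex

end Groth.Agent.H35.LTP
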