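import Mathlib
import Groth.Agent.H35.LTP.KSide
import Groth.Agent.H35.KFTotalExact

/-!
# The short exact sequence `0 → P ⊗ J[0] → P ⊗ A[0] → P ⊗ (A/J)[0] → 0` for `P` termwise flat,
and the transition maps (helper35, for S13579)
-/

set_option autoImplicit false
universe u

open CategoryTheory CategoryTheory.Limits MonoidalCategory

namespace Groth.Agent.H35.LTP

open Groth.Agent.H35.LTI

variable {A : Type u} [CommRing A]

instance (J : Ideal A) : Epi (πB J) :=
  (ModuleCat.epi_iff_surjective _).2 (Submodule.Quotient.mk_surjective _)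

/-- `0 → J → A → A/J → 0` -/
noncomputable def modSC (J : Ideal A) : ShortComplex (ModuleCat.{u} A) :=
  ShortComplex.mk (X₁ := ModuleCat.of A ↥J) (X₂ := 𝟙_ (ModuleCat.{u} A)) (X₃ := BMod J)
    (ModuleCat.ofHom J.subtype) (πB J) (by
      ext x
      have hx : (x : A) ∈ (J • ⊤ : Submodule A A) := by
        rw [smul_eq_mul, Ideal.mul_top]
        exact x.2
      exact (Submodule.Quotient.mk_eq_zero _).2 hx)

lemma modSC_shortExact (J : Ideal A) : (modSC J).ShortExact := by
  refine ShortComplex.ShortExact.mk' ?_ ?_ ?_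
  · rw [ShortComplex.ShortExact.moduleCat_exact_iff_function_exact]
    intro y
    have key : ∀ z : A, (Submodule.Quotient.mk z : A ⧸ (J • ⊤ : Submodule A A)) = 0 ↔
        z ∈ Set.range J.subtype := by
      intro z
      rw [Submodule.Quotient.mk_eq_zero, smul_eq_mul, Ideal.mul_top]
      constructor
      · intro h
        exact ⟨⟨z, h⟩, rfl⟩
      · rintro ⟨x, rfl⟩
        exact x.2
    exact key y
  · exact (ModuleCat.mono_iff_injective _).2 (Submodule.injective_subtype _)
  · exact inferInstanceAs (Epi (πB J))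

/-- the transition map `A/J' ⟶ A/J` for `J' ≤ J` -/
noncomputable def trB {J' J : Ideal A} (h : J' ≤ J) : BMod J' ⟶ BMod J :=
  ModuleCat.ofHom (Submodule.factor (Submodule.smul_mono_left h))

lemma πB_trB {J' J : Ideal A} (h : J' ≤ J) : πB J' ≫ trB h = πB J := by
  ext
  rfl

lemma trB_comp {J'' J' J : Ideal A} (h' : J'' ≤ J') (h : J' ≤ J) :
    trB h' ≫ trB h = trB (h'.trans h) := by
  rw [← cancel_epi (πB J''), ← Category.assoc, πB_trB, πB_trB, πB_trB]

/-- `J' ⟶ J` for `J' ≤ J` -/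
noncomputable def inclI {J' J : Ideal A} (h : J' ≤ J) : ModuleCat.of A ↥J' ⟶ ModuleCat.of A ↥J :=
  ModuleCat.ofHom (Submodule.inclusion h)

/-- the map of short complexes for `J' ≤ J` -/
noncomputable def modSCMap {J' J : Ideal A} (h : J' ≤ J) : modSC J' ⟶ modSC J :=
  ShortComplex.homMk (S₁ := modSC J') (S₂ := modSC J) (inclI h) (𝟙 _) (trB h)
    (by
      ext
      rfl)
    (by
      ext
      rfl)

section Complex

variable (P : DRing.Cx A)

/-- `P ⊗ J[0] ⟶ P ⊗ A[0] ⟶ P ⊗ (A/J)[0]` -/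
noncomputable def pSC (J : Ideal A) : ShortComplex (DRing.Cx A) :=
  ((modSC J).map (S0 A)).map (tensorLeft P)

lemma pSC_shortExact (hP : ∀ p : ℤ, Module.Flat A (P.X p)) (J : Ideal A) :
    (pSC P J).ShortExact := by
  apply Groth.Agent.H35.KF.shortExact_map_tensorLeft
  intro p q
  have h1 : (((modSC J).map (S0 A)).map (HomologicalComplex.eval _ _ q)).ShortExact :=
    ((modSC_shortExact J).map_of_exact (S0 A)).map_of_exact _
  have := hP p
  exact h1.map_of_exact (tensorLeft (P.X p))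

/-- the map of short complexes for `J' ≤ J` -/
noncomputable def pSCMap {J' J : Ideal A} (h : J' ≤ J) : pSC P J' ⟶ pSC P J :=
  (tensorLeft P).mapShortComplex.map ((S0 A).mapShortComplex.map (modSCMap h))

lemma pSC_g (J : Ideal A) : (pSC P J).g = P ◁ πBCx J := rfl

lemma pSCMap_τ₁ {J' J : Ideal A} (h : J' ≤ J) :
    (pSCMap P h).τ₁ = P ◁ (S0 A).map (inclI h) := rfl

lemma pSCMap_τ₂ {J' J : Ideal A} (h : J' ≤ J) : (pSCMap P h).τ₂ = 𝟙 _ := by
  show P ◁ (S0 A).map (𝟙 _) = 𝟙 _
  rw [CategoryTheory.Functor.map_id, MonoidalCategory.whiskerLeft_id]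

lemma pSCMap_τ₃ {J' J : Ideal A} (h : J' ≤ J) :
    (pSCMap P h).τ₃ = P ◁ (S0 A).map (trB h) := rfl

end Complex

section KSide

variable (K : DRing.Cx A)

lemma qCx_trB {J' J : Ideal A} (h : J' ≤ J) :
    qCx J' K ≫ K ◁ (S0 A).map (trB h) = qCx J K := by
  unfold qCx πBCx
  rw [Category.assoc, ← MonoidalCategory.whiskerLeft_comp, ← Functor.map_comp, πB_trB]

/-- the map of short complexes for `J' ≤ J` -/
noncomputable def kSCMap {J' J : Ideal A} (h : J' ≤ J) : kSC J' K ⟶ kSC J K :=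
  ShortComplex.homMk (S₁ := kSC J' K) (S₂ := kSC J K) (leCx h K) (𝟙 K) (K ◁ (S0 A).map (trB h))
    (by
      show leCx h K ≫ ιCx J K = ιCx J' K ≫ 𝟙 K
      rw [leCx_ι, Category.comp_id])
    (by
      show 𝟙 K ≫ qCx J K = qCx J' K ≫ K ◁ (S0 A).map (trB h)
      rw [Category.id_comp, qCx_trB])

/-- compatibility of `qCx` with a map of complexes -/
lemma qCx_naturality (J : Ideal A) {P K : DRing.Cx A} (π : P ⟶ K) :
    qCx J P ≫ (π ▷ (S0 A).obj (BMod J)) = π ≫ qCx J K := by
  unfold qCx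
  rw [Category.assoc, MonoidalCategory.whisker_exchange, ← Category.assoc,
    ← MonoidalCategory.rightUnitor_inv_naturality, Category.assoc]

end KSide

end Groth.Agent.H35.LTP
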