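import Mathlib
import Groth.Agent.H35.LTI.Main
import Groth.Agent.H35.KFCone

/-!
# Extension over the Koszul tower after tensoring on the left (helper35, for S13579)

For complexes `F`, `Y` and an object `Z` of `D(A)` killed by all elements of a list `fs`, every
map `Q(F ⊗ Y) ⟶ Z` extends over `Q(F ◁ toKos fs Y) : Q(F ⊗ Y) ⟶ Q(F ⊗ kosCx fs Y)`.
-/

set_option autoImplicit false
universe v u

open CategoryTheory CategoryTheory.Limits CategoryTheory.Pretriangulated MonoidalCategory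

namespace Groth.Agent.H35.LTP

open Groth.Agent.H35.LTI Groth.Agent.H35.KosAbs Groth.Agent.H35.KosCrit

section Abstract

variable {C : Type u} [Category.{v} C] [Preadditive C] [HasZeroObject C] [HasShift C ℤ]
  [∀ n : ℤ, (shiftFunctor C n).Additive] [Pretriangulated C]

/-- exactness of `Hom(-, Z)` at the first vertex of a distinguished triangle -/
lemma exists_of_comp_shift_eq_zero {T : Triangle C} (hT : T ∈ distTriang C) {Z : C}
    (β : T.obj₁ ⟶ Z) (h : T.mor₃ ≫ β⟦(1 : ℤ)⟧' = 0) : ∃ β₁ : T.obj₂ ⟶ Z, β = T.mor₁ ≫ β₁ := by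
  obtain ⟨(g : T.obj₂⟦(1 : ℤ)⟧ ⟶ Z⟦(1 : ℤ)⟧), (hg : β⟦(1 : ℤ)⟧' = (-T.mor₁⟦(1 : ℤ)⟧') ≫ g)⟩ :=
    Triangle.yoneda_exact₃ T.rotate (rot_of_distTriang _ hT) (β⟦(1 : ℤ)⟧') h
  obtain ⟨g₀, rfl⟩ := (shiftFunctor C (1 : ℤ)).map_surjective g
  refine ⟨-g₀, ?_⟩
  apply (shiftFunctor C (1 : ℤ)).map_injective
  rw [hg, Functor.map_comp, Functor.map_neg, Preadditive.neg_comp, Preadditive.comp_neg]

end Abstract

section Concrete

open DerivedCategory

attribute [local instance] HasDerivedCategory.standard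

variable {A : Type u} [CommRing A]

lemma whiskerLeft_smul_cx (c : A) (F : DRing.Cx A) {K K' : DRing.Cx A} (g : K ⟶ K') :
    F ◁ (c • g) = c • (F ◁ g) := by
  change HomologicalComplex.mapBifunctorMap (𝟙 F) (c • g) _ _ =
    c • HomologicalComplex.mapBifunctorMap (𝟙 F) g _ _
  refine HomologicalComplex.hom_ext _ _ (fun n => HomologicalComplex.mapBifunctor.hom_ext
    (fun p q h => ?_))
  rw [HomologicalComplex.smul_f_apply, Linear.comp_smul,
    HomologicalComplex.ι_mapBifunctorMap, HomologicalComplex.ι_mapBifunctorMap]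
  simp only [curriedTensor_obj_obj, curriedTensor_map_app, curriedTensor_obj_map,
    HomologicalComplex.smul_f_apply, MonoidalLinear.whiskerLeft_smul, Linear.smul_comp,
    Linear.comp_smul]

/-- the degreewise split sequence `Y ⟶ cone ψ ⟶ Y⟦1⟧` -/
noncomputable def rotSC {Y : DRing.Cx A} (ψ : Y ⟶ Y) : ShortComplex (DRing.Cx A) :=
  ShortComplex.mk (X₁ := Y) (X₂ := CochainComplex.mappingCone ψ) (X₃ := Y⟦(1 : ℤ)⟧)
    (CochainComplex.mappingCone.inr ψ) (CochainComplex.mappingCone.triangle ψ).mor₃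
    (CochainComplex.mappingCone.inr_triangleδ ψ)

/-- `rotSC ψ` is degreewise split -/
noncomputable def rotSCSplitting {Y : DRing.Cx A} (ψ : Y ⟶ Y) (n : ℤ) :
    ((rotSC ψ).map (HomologicalComplex.eval _ _ n)).Splitting :=
  CochainComplex.mappingCone.triangleRotateShortComplexSplitting ψ n

/-- the map of short complexes `rotSC (𝟙 Y) ⟶ rotSC (x • 𝟙 Y)` -/
noncomputable def rotSCMap {Y : DRing.Cx A} (x : A) : rotSC (𝟙 Y) ⟶ rotSC (x • 𝟙 Y) :=
  ShortComplex.homMk (S₁ := rotSC (𝟙 Y)) (S₂ := rotSC (x • 𝟙 Y)) (x • 𝟙 Y)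
    (CochainComplex.mappingCone.map (𝟙 Y) (x • 𝟙 Y) (𝟙 Y) (x • 𝟙 Y) rfl) (𝟙 (Y⟦(1 : ℤ)⟧))
    (CochainComplex.mappingCone.triangleMap (𝟙 Y) (x • 𝟙 Y) (𝟙 Y) (x • 𝟙 Y) rfl).comm₂.symm (by
      have h := (CochainComplex.mappingCone.triangleMap (𝟙 Y) (x • 𝟙 Y) (𝟙 Y) (x • 𝟙 Y) rfl).comm₃
      have h' : (shiftFunctor (CochainComplex (ModuleCat.{u} A) ℤ) (1 : ℤ)).map
          (CochainComplex.mappingCone.triangleMap (𝟙 Y) (x • 𝟙 Y) (𝟙 Y) (x • 𝟙 Y) rfl).hom₁ =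
          𝟙 _ := by
        show (shiftFunctor (CochainComplex (ModuleCat.{u} A) ℤ) (1 : ℤ)).map (𝟙 Y) = 𝟙 _
        exact CategoryTheory.Functor.map_id _ _
      rw [h'] at h
      exact h.symm)

lemma rotSCMap_τ₁ {Y : DRing.Cx A} (x : A) : (rotSCMap (Y := Y) x).τ₁ = x • 𝟙 Y := rfl

lemma rotSCMap_τ₃ {Y : DRing.Cx A} (x : A) : (rotSCMap (Y := Y) x).τ₃ = 𝟙 (Y⟦(1 : ℤ)⟧) := rfl

/-- one step of the extension -/
lemma exists_extension_whiskerLeft_inr (F Y : DRing.Cx A) (x : A) (Z : Dual.D A)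
    (hx : x • 𝟙 Z = 0) (β : Q.obj (F ⊗ Y) ⟶ Z) :
    ∃ β₁ : Q.obj (F ⊗ coneF x Y) ⟶ Z,
      β = Q.map (F ◁ CochainComplex.mappingCone.inr (x • 𝟙 Y)) ≫ β₁ := by
  have hS₁ : ((rotSC (𝟙 Y)).map (tensorLeft F)).ShortExact :=
    Groth.Agent.H35.KF.shortExact_map_tensorLeft_of_splitting _ (rotSCSplitting (𝟙 Y)) F
  have hS₂ : ((rotSC (x • 𝟙 Y)).map (tensorLeft F)).ShortExact :=
    Groth.Agent.H35.KF.shortExact_map_tensorLeft_of_splitting _ (rotSCSplitting (x • 𝟙 Y)) F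
  have nat := DerivedCategory.triangleOfSESδ_naturality hS₁ hS₂
    ((tensorLeft F).mapShortComplex.map (rotSCMap (Y := Y) x))
  have h1 : ((tensorLeft F).mapShortComplex.map (rotSCMap (Y := Y) x)).τ₁ = x • 𝟙 (F ⊗ Y) := by
    show F ◁ (x • 𝟙 Y) = _
    rw [whiskerLeft_smul_cx, MonoidalCategory.whiskerLeft_id]
  have h3 : ((tensorLeft F).mapShortComplex.map (rotSCMap (Y := Y) x)).τ₃ =
      𝟙 (F ⊗ Y⟦(1 : ℤ)⟧) := by
    show F ◁ (𝟙 (Y⟦(1 : ℤ)⟧)) = _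
    rw [MonoidalCategory.whiskerLeft_id]
  have e1 : Q.map ((tensorLeft F).mapShortComplex.map (rotSCMap (Y := Y) x)).τ₁ =
      x • 𝟙 (Q.obj (F ⊗ Y)) := by
    have h : Q.map (x • 𝟙 (F ⊗ Y)) = x • 𝟙 (Q.obj (F ⊗ Y)) := by
      rw [Functor.map_smul, CategoryTheory.Functor.map_id]
    exact (congrArg (fun t => Q.map t) h1).trans h
  have e3 : Q.map ((tensorLeft F).mapShortComplex.map (rotSCMap (Y := Y) x)).τ₃ =
      𝟙 (Q.obj (F ⊗ Y⟦(1 : ℤ)⟧)) :=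
    (congrArg (fun t => Q.map t) h3).trans (Q.map_id _)
  have nat' : DerivedCategory.triangleOfSESδ hS₁ ≫ (x • 𝟙 (Q.obj (F ⊗ Y)))⟦(1 : ℤ)⟧' =
      DerivedCategory.triangleOfSESδ hS₂ :=
    (congrArg (fun t => DerivedCategory.triangleOfSESδ hS₁ ≫ t⟦(1 : ℤ)⟧') e1).symm.trans
      (nat.trans ((congrArg (fun t => t ≫ DerivedCategory.triangleOfSESδ hS₂) e3).trans
        (Category.id_comp _)))
  have hT := DerivedCategory.triangleOfSES_distinguished hS₂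
  have hz : (DerivedCategory.triangleOfSES hS₂).mor₃ ≫ β⟦(1 : ℤ)⟧' = 0 := by
    show DerivedCategory.triangleOfSESδ hS₂ ≫ β⟦(1 : ℤ)⟧' = 0
    have hb : (x • 𝟙 (Q.obj (F ⊗ Y))) ≫ β = 0 := by
      rw [← smul_comp_eq', smul_comp_eq, hx, comp_zero]
    have hb' : (x • 𝟙 (Q.obj (F ⊗ Y)))⟦(1 : ℤ)⟧' ≫ β⟦(1 : ℤ)⟧' = 0 := by
      rw [← Functor.map_comp, hb, Functor.map_zero]
    exact (congrArg (fun t => t ≫ β⟦(1 : ℤ)⟧') nat'.symm).trans
      ((Category.assoc _ _ _).trans ((congrArg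
        (fun t => DerivedCategory.triangleOfSESδ hS₁ ≫ t) hb').trans comp_zero))
  exact exists_of_comp_shift_eq_zero hT β hz

/-- maps to an object killed by all elements of `fs` extend over `F ◁ toKos fs Y` -/
lemma exists_extension_whiskerLeft_toKos (F : DRing.Cx A) (Z : Dual.D A) :
    ∀ (fs : List A) (_ : ∀ g ∈ fs, g • 𝟙 Z = 0) (Y : DRing.Cx A) (β : Q.obj (F ⊗ Y) ⟶ Z),
      ∃ β' : Q.obj (F ⊗ kosCx fs Y) ⟶ Z, β = Q.map (F ◁ toKos fs Y) ≫ β' := by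
  intro fs
  induction fs with
  | nil =>
    intro _ Y β
    refine ⟨β, ?_⟩
    show β = Q.map (F ◁ 𝟙 Y) ≫ β
    rw [MonoidalCategory.whiskerLeft_id, CategoryTheory.Functor.map_id, Category.id_comp]
  | cons f fs ih =>
    intro hfs Y β
    obtain ⟨β₁, hβ₁⟩ := exists_extension_whiskerLeft_inr F Y f Z (hfs f List.mem_cons_self) β
    obtain ⟨β', hβ'⟩ := ih (fun g hg => hfs g (List.mem_cons_of_mem _ hg)) (coneF f Y) β₁
    refine ⟨β', ?_⟩
    have e : Q.map (F ◁ toKos (f :: fs) Y) =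
        Q.map (F ◁ CochainComplex.mappingCone.inr (f • 𝟙 Y)) ≫
          Q.map (F ◁ toKos fs (coneF f Y)) := by
      rw [← Functor.map_comp, ← MonoidalCategory.whiskerLeft_comp]
      rfl
    exact (hβ₁.trans (congrArg
      (fun t => Q.map (F ◁ CochainComplex.mappingCone.inr (f • 𝟙 Y)) ≫ t) hβ')).trans
      ((Category.assoc _ _ _).symm.trans (congrArg (fun t => t ≫ β') e.symm))

end Concrete

end Groth.Agent.H35.LTP
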