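import Mathlib
import Groth.Agent.H35.LTP.KosExtF

/-!
# Artin–Rees vanishing for maps to `I`-power torsion objects (helper35, for S13579)

* `vprop_of_powKills`: if a power of `I` kills `Z ∈ D(A)` then every map `N[0] ⟶ Z`, `N` finite,
  vanishes on `(I^k N)[0]` for some `k`.
* `vstar`: the same for maps `Q(F ⊗ N[0]) ⟶ Z`, where `F ⊗ -` preserves zero maps of `D(A)`.
-/

set_option autoImplicit false
universe u

open CategoryTheory CategoryTheory.Limits CategoryTheory.Pretriangulated MonoidalCategory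

namespace Groth.Agent.H35.LTP

open DerivedCategory Groth.Agent.H35.LTI Groth.Agent.H35.KosAbs Groth.Agent.H35.KosCrit
  Groth.Agent.H35.ExtAR

attribute [local instance] HasDerivedCategory.standard

variable {A : Type u} [CommRing A]

/-- if the squares... rather: if powers of the elements of `s` kill `W` and `s` generates `I ^ m`,
then a power of `I` kills `W` -/
lemma powKills_of_nil_pow (I : Ideal A) (m : ℕ) (s : Finset A)
    (hs : Ideal.span (s : Set A) = I ^ m) (W : Dual.D A) (hW : ∀ f ∈ s, Nil f W) :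
    PowKills I W := by
  have hle : I ^ m ≤ (annIdeal W).radical := by
    rw [← hs, Ideal.span_le]
    intro f hf
    obtain ⟨k, hk⟩ := hW f hf
    exact ⟨k, hk⟩
  obtain ⟨t, ht⟩ := Ideal.exists_pow_le_of_le_radical_of_fg hle ⟨s, hs⟩
  refine ⟨m * t, fun x hx => ?_⟩
  rw [pow_mul] at hx
  exact ht hx

section Noeth

variable [IsNoetherianRing A] (I : Ideal A)

/-- the Koszul tower on generators of `I ^ m` kills `I^k N ⟶ N` for large `k` -/
lemma exists_pow_toKos_eq_zero (m : ℕ) (s : Finset A) (hs : Ideal.span (s : Set A) = I ^ m)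
    (N : Type u) [AddCommGroup N] [Module A N] [Module.Finite A N] :
    ∃ k : ℕ, Q.map ((S0 A).map (ModuleCat.ofHom (powTop I k N).subtype) ≫
      toKos s.toList ((S0 A).obj (ModuleCat.of A N))) = 0 := by
  let W : Dual.D A := Q.obj (kosCx s.toList ((S0 A).obj (ModuleCat.of A N)))
  have h0 : ((sg A).obj (ModuleCat.of A N)).IsLE 0 := inferInstance
  have h0' : ((sg A).obj (ModuleCat.of A N)).IsGE 0 := inferInstance
  have hWLE : W.IsLE 0 := isLE_kosCx s.toList _ 0 h0
  have hWGE : W.IsGE (0 - s.toList.length) := isGE_kosCx s.toList _ 0 h0'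
  have hWnil : PowKills I W := by
    apply powKills_of_nil_pow I m s hs
    intro f hf
    exact nil_kosCx s.toList _ f (Finset.mem_toList.2 hf)
  have hV : VProp I W := vprop_of_bounded I W _ 0 hWGE hWLE
    (fun q => powKills_homology I W hWnil q)
  obtain ⟨k, hk⟩ := hV N (Q.map (toKos s.toList ((S0 A).obj (ModuleCat.of A N))))
  refine ⟨k, ?_⟩
  rw [Functor.map_comp]
  exact hk

/-- **Artin–Rees vanishing** for targets killed by a power of `I`. -/
theorem vprop_of_powKills (Z : Dual.D A) (hZ : PowKills I Z) : VProp I Z := by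
  intro N _ _ _ ψ
  obtain ⟨m, hm⟩ := hZ
  obtain ⟨s, hs⟩ : (I ^ m).FG := IsNoetherian.noetherian _
  have hfs : ∀ g ∈ s.toList, g • 𝟙 Z = 0 := by
    intro g hg
    apply hm
    rw [← hs]
    exact Ideal.subset_span (Finset.mem_toList.1 hg)
  obtain ⟨ψ', hψ'⟩ := exists_extension_toKos Z s.toList hfs ((S0 A).obj (ModuleCat.of A N)) ψ
  obtain ⟨k, hk⟩ := exists_pow_toKos_eq_zero I m s hs N
  refine ⟨k, ?_⟩
  rw [Functor.map_comp] at hk
  have h1 : (sg A).map (ModuleCat.ofHom (powTop I k N).subtype) ≫ ψ =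
      (Q.map ((S0 A).map (ModuleCat.ofHom (powTop I k N).subtype)) ≫
        Q.map (toKos s.toList ((S0 A).obj (ModuleCat.of A N)))) ≫ ψ' := by
    rw [Category.assoc, ← hψ']
    rfl
  rw [h1, hk, zero_comp]
  rfl

/-- **Artin–Rees vanishing** for sources of the form `F ⊗ N[0]`. -/
theorem vstar (F : DRing.Cx A)
    (hF : ∀ {X Y : DRing.Cx A} (u : X ⟶ Y), Q.map u = 0 → Q.map (F ◁ u) = 0)
    (Z : Dual.D A) (hZ : PowKills I Z)
    (N : Type u) [AddCommGroup N] [Module A N] [Module.Finite A N]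
    (ψ : Q.obj (F ⊗ (S0 A).obj (ModuleCat.of A N)) ⟶ Z) :
    ∃ k : ℕ, Q.map (F ◁ (S0 A).map (ModuleCat.ofHom (powTop I k N).subtype)) ≫ ψ = 0 := by
  obtain ⟨m, hm⟩ := hZ
  obtain ⟨s, hs⟩ : (I ^ m).FG := IsNoetherian.noetherian _
  have hfs : ∀ g ∈ s.toList, g • 𝟙 Z = 0 := by
    intro g hg
    apply hm
    rw [← hs]
    exact Ideal.subset_span (Finset.mem_toList.1 hg)
  obtain ⟨ψ', hψ'⟩ := exists_extension_whiskerLeft_toKos F Z s.toList hfs
    ((S0 A).obj (ModuleCat.of A N)) ψ
  obtain ⟨k, hk⟩ := exists_pow_toKos_eq_zero I m s hs N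
  refine ⟨k, ?_⟩
  have h2 := hF _ hk
  rw [MonoidalCategory.whiskerLeft_comp, Functor.map_comp] at h2
  rw [hψ', ← Category.assoc, h2, zero_comp]

end Noeth

end Groth.Agent.H35.LTP
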