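import Mathlib
import Groth.Agent.H35.LTP.VStar
import Groth.Agent.H35.LTP.ISub
import Groth.Agent.H35.BoundedInduction

/-!
# Artin–Rees vanishing for sources a bounded complex of finite modules (helper35, for S13579)

`vcx`: if a power of `I` kills `Z ∈ D(A)` and `E` is a bounded complex of finite modules, then
every map `Q(E) ⟶ Z` vanishes on `Q(I^k E)` for some `k`.
-/

set_option autoImplicit false
universe u

open CategoryTheory CategoryTheory.Limits CategoryTheory.Pretriangulated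

namespace Groth.Agent.H35.LTP

open DerivedCategory Groth.Agent.H35 Groth.Agent.H35.LTI Groth.Agent.H35.ExtAR
  Groth.Agent.H9.DC

attribute [local instance] HasDerivedCategory.standard

variable {A : Type u} [CommRing A]

lemma powKills_shift (I : Ideal A) (Z : Dual.D A) (hZ : PowKills I Z) (a : ℤ) :
    PowKills I (Z⟦a⟧) := by
  obtain ⟨m, hm⟩ := hZ
  refine ⟨m, fun x hx => ?_⟩
  rw [← shift_smul_id, hm x hx, Functor.map_zero]

variable [IsNoetherianRing A] (I : Ideal A)

/-- Artin–Rees vanishing for a module placed in an arbitrary degree -/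
theorem vprop_deg (Z : Dual.D A) (hZ : PowKills I Z) (a : ℤ)
    (N : Type u) [AddCommGroup N] [Module A N] [Module.Finite A N]
    (ψ : (singleFunctor (ModuleCat.{u} A) a).obj (ModuleCat.of A N) ⟶ Z) :
    ∃ k : ℕ, (singleFunctor (ModuleCat.{u} A) a).map
      (ModuleCat.ofHom (powTop I k N).subtype) ≫ ψ = 0 := by
  let θ : singleFunctor (ModuleCat.{u} A) a ⋙ shiftFunctor (Dual.D A) a ≅ sg A :=
    (singleFunctors (ModuleCat.{u} A)).shiftIso a 0 a (by omega)
  obtain ⟨k, hk⟩ := vprop_of_powKills I (Z⟦a⟧) (powKills_shift I Z hZ a) N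
    (θ.inv.app (ModuleCat.of A N) ≫ ψ⟦a⟧')
  refine ⟨k, ?_⟩
  have hnat := θ.inv.naturality (ModuleCat.ofHom (powTop I k N).subtype)
  rw [← Category.assoc, hnat, Category.assoc] at hk
  have h1 : ((singleFunctor (ModuleCat.{u} A) a).map
      (ModuleCat.ofHom (powTop I k N).subtype) ≫ ψ)⟦a⟧' = 0 := by
    rw [Functor.map_comp]
    exact (cancel_epi (θ.inv.app _)).1 (hk.trans comp_zero.symm)
  exact (shiftFunctor (Dual.D A) a).map_injective (h1.trans (Functor.map_zero _ _ _).symm)

/-- the base case: a complex isomorphic to a finite module placed in one degree -/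
theorem vcx_single (Z : Dual.D A) (hZ : PowKills I Z) (a : ℤ)
    (M : Type u) [AddCommGroup M] [Module A M] [Module.Finite A M] (X : DRing.Cx A)
    (e : X ≅ (HomologicalComplex.single (ModuleCat.{u} A) (ComplexShape.up ℤ) a).obj
      (ModuleCat.of A M)) (ψ : Q.obj X ⟶ Z) :
    ∃ k : ℕ, Q.map (ιCx (I ^ k) X) ≫ ψ = 0 := by
  obtain ⟨k, hk⟩ := vprop_deg I Z hZ a M (Q.map e.inv ≫ ψ)
  refine ⟨k, ?_⟩
  have h1 : ιCx (I ^ k) X = (ISubCx (I ^ k)).map e.hom ≫
      ιCx (I ^ k) ((HomologicalComplex.single (ModuleCat.{u} A) (ComplexShape.up ℤ) a).obj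
        (ModuleCat.of A M)) ≫ e.inv := by
    rw [← Category.assoc, ιCx_naturality, Category.assoc, Iso.hom_inv_id, Category.comp_id]
  have h2 := singleMap_ιCx (I ^ k) a (ModuleCat.of A M)
  have hk' : Q.map ((HomologicalComplex.single (ModuleCat.{u} A) (ComplexShape.up ℤ) a).map
      ((ISubι (I ^ k)).app (ModuleCat.of A M))) ≫ Q.map e.inv ≫ ψ = 0 := hk
  rw [h1, ← h2, Functor.map_comp, Functor.map_comp, Functor.map_comp, Category.assoc,
    Category.assoc, Category.assoc, hk', comp_zero, comp_zero]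

/-- **Artin–Rees vanishing** for a bounded complex of finite modules. -/
theorem vcx (Z : Dual.D A) (hZ : PowKills I Z) (E : DRing.Cx A) (a b : ℤ)
    (hE : DRing.VanishesOutside E a b) (hfin : ∀ i : ℤ, Module.Finite A (E.X i))
    (ψ : Q.obj E ⟶ Z) : ∃ k : ℕ, Q.map (ιCx (I ^ k) E) ≫ ψ = 0 := by
  obtain ⟨n, hn⟩ : ∃ n : ℕ, b < a + n := ⟨(b - a + 1).toNat, by omega⟩
  induction n generalizing E a with
  | zero =>
    refine ⟨0, ?_⟩
    have hz : IsZero (Q.obj E) := by
      apply isZero_Q_of_isZero_X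
      intro i
      apply hE
      omega
    rw [hz.eq_of_src ψ 0, comp_zero]
  | succ n ih =>
    have ha : IsZero (E.X (a - 1)) := hE _ (Or.inl (by omega))
    let S := bottomSC E a ha
    have hS : S.ShortExact := bottomSC_shortExact E a ha
    -- the induction hypothesis for the truncation
    have hE' : DRing.VanishesOutside (truncBottom E a ha) (a + 1) b := by
      intro i hi
      by_cases h : i = a
      · subst h
        exact truncBottom_isZero_X E i ha
      · exact truncBottom_isZero_of_isZero E a ha i (hE i (by omega))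
    have hfin' : ∀ i : ℤ, Module.Finite A ((truncBottom E a ha).X i) := by
      intro i
      by_cases h : i = a
      · subst h
        have := ModuleCat.subsingleton_of_isZero (truncBottom_isZero_X E i ha)
        infer_instance
      · have := hfin i
        exact Module.Finite.equiv (truncBottomXIso E a ha i h).toLinearEquiv.symm
    obtain ⟨k₁, hk₁⟩ := ih (truncBottom E a ha) (a + 1) hE' hfin' (Q.map S.f ≫ ψ) (by omega)
    -- the short exact sequence `0 → I^k₁ E' → I^k₁ E → I^k₁ E^a[-a] → 0`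
    have htriv : ∀ i : ℤ, (IsIso (S.f.f i) ∧ IsZero (S.X₃.X i)) ∨
        (IsZero (S.X₁.X i) ∧ IsIso (S.g.f i)) := by
      intro i
      by_cases h : i = a
      · subst h
        exact Or.inr ⟨truncBottom_isZero_X E i ha, projBottom_f_isIso E i ha⟩
      · have hz : IsZero (S.X₃.X i) :=
          HomologicalComplex.isZero_single_obj_X (ComplexShape.up ℤ) _ _ _ h
        exact Or.inl ⟨(bottomSC_eval_shortExact E a ha i).isIso_f_iff.mpr hz, hz⟩
    have hSΦ : (S.map (ISubCx (I ^ k₁))).ShortExact :=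
      shortExact_map_of_trivial (ISub (I ^ k₁)) S htriv
    have hT := triangleOfSES_distinguished hSΦ
    have enat : (ISubCx (I ^ k₁)).map S.f ≫ ιCx (I ^ k₁) E =
        ιCx (I ^ k₁) (truncBottom E a ha) ≫ S.f := ιCx_naturality (I ^ k₁) S.f
    have h0 : (triangleOfSES hSΦ).mor₁ ≫ (Q.map (ιCx (I ^ k₁) E) ≫ ψ) = 0 := by
      show Q.map ((ISubCx (I ^ k₁)).map S.f) ≫ Q.map (ιCx (I ^ k₁) E) ≫ ψ = 0
      have e2 : Q.map ((ISubCx (I ^ k₁)).map S.f) ≫ Q.map (ιCx (I ^ k₁) E) =
          Q.map (ιCx (I ^ k₁) (truncBottom E a ha)) ≫ Q.map S.f := by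
        rw [← Functor.map_comp, ← Functor.map_comp]
        exact congrArg (fun t => Q.map t) enat
      exact ((Category.assoc _ _ _).symm.trans (congrArg (fun t => t ≫ ψ) e2)).trans
        ((Category.assoc _ _ _).trans hk₁)
    obtain ⟨ψ'', hψ''⟩ := Triangle.yoneda_exact₂ _ hT _ h0
    have hψ3 : Q.map (ιCx (I ^ k₁) E) ≫ ψ = Q.map ((ISubCx (I ^ k₁)).map S.g) ≫ ψ'' := hψ''
    -- the base case for `I^k₁ E^a[-a]`
    have hN : IsNoetherian A (E.X a) :=
      have := hfin a
      isNoetherian_of_isNoetherianRing_of_finite A _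
    have hfinM : Module.Finite A ↥(I ^ k₁ • (⊤ : Submodule A (E.X a))) := inferInstance
    let σ := (HomologicalComplex.singleMapHomologicalComplex (ISub (I ^ k₁))
      (ComplexShape.up ℤ) a).app (E.X a)
    obtain ⟨k₂, hk₂⟩ := vcx_single I Z hZ a ↥(I ^ k₁ • (⊤ : Submodule A (E.X a)))
      ((ISubCx (I ^ k₁)).obj S.X₃) σ ψ''
    refine ⟨k₁ + k₂, ?_⟩
    have hle : I ^ (k₁ + k₂) ≤ I ^ k₁ * I ^ k₂ := le_of_eq (pow_add I k₁ k₂)
    have hfac := facCx_ι (I ^ k₁) (I ^ k₂) (I ^ (k₁ + k₂)) hle E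
    have stepA : Q.map (ιCx (I ^ (k₁ + k₂)) E) =
        Q.map (facCx (I ^ k₁) (I ^ k₂) (I ^ (k₁ + k₂)) hle E) ≫
          Q.map (ιCx (I ^ k₂) ((ISubCx (I ^ k₁)).obj E)) ≫ Q.map (ιCx (I ^ k₁) E) := by
      rw [← Functor.map_comp, ← Functor.map_comp]
      exact congrArg (fun t => Q.map t) hfac.symm
    have stepC : Q.map (ιCx (I ^ k₂) ((ISubCx (I ^ k₁)).obj E)) ≫
        Q.map ((ISubCx (I ^ k₁)).map S.g) =
        Q.map ((ISubCx (I ^ k₂)).map ((ISubCx (I ^ k₁)).map S.g)) ≫
          Q.map (ιCx (I ^ k₂) ((ISubCx (I ^ k₁)).obj S.X₃)) := by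
      rw [← Functor.map_comp, ← Functor.map_comp]
      exact congrArg (fun t => Q.map t)
        (ιCx_naturality (I ^ k₂) ((ISubCx (I ^ k₁)).map S.g)).symm
    have stepBD : Q.map (ιCx (I ^ k₂) ((ISubCx (I ^ k₁)).obj E)) ≫
        Q.map (ιCx (I ^ k₁) E) ≫ ψ = 0 :=
      (congrArg (fun t => Q.map (ιCx (I ^ k₂) ((ISubCx (I ^ k₁)).obj E)) ≫ t) hψ3).trans
        ((Category.assoc _ _ _).symm.trans ((congrArg (fun t => t ≫ ψ'') stepC).trans
          ((Category.assoc _ _ _).trans
            ((congrArg (fun t => Q.map ((ISubCx (I ^ k₂)).map ((ISubCx (I ^ k₁)).map S.g)) ≫ t)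
              hk₂).trans comp_zero))))
    rw [stepA, Category.assoc, Category.assoc, stepBD, comp_zero]

end Groth.Agent.H35.LTP
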