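import Mathlib
import Groth.Agent.H35.LTP.VCx
import Groth.Agent.H35.LTP.PSide

/-!
# The complex-level pro-isomorphism `P ⊗ (A/I^n)[0] → K ⊗ (A/I^n)[0]` (helper35, for S13579)
-/

set_option autoImplicit false
universe u

open CategoryTheory CategoryTheory.Limits CategoryTheory.Pretriangulated MonoidalCategory

namespace Groth.Agent.H35.LTP

open DerivedCategory Groth.Agent.H35 Groth.Agent.H35.LTI Groth.Agent.H35.ExtAR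

attribute [local instance] HasDerivedCategory.standard

section General

variable {C : Type*} [Category C] [Preadditive C] [HasShift C ℤ]
  [∀ n : ℤ, (shiftFunctor C n).Additive]

/-- vanishing after adjunction implies vanishing -/
lemma shift_comp_eq_zero {X' X Y : C} (f : X' ⟶ X) (r : X⟦(1 : ℤ)⟧ ⟶ Y)
    (h : f ≫ (shiftFunctorCompIsoId C (1 : ℤ) (-1) (by norm_num)).inv.app X ≫
      r⟦(-1 : ℤ)⟧' = 0) :
    f⟦(1 : ℤ)⟧' ≫ r = 0 := by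
  have nat := (shiftFunctorCompIsoId C (1 : ℤ) (-1) (by norm_num)).inv.naturality f
  have h1 : (shiftFunctorCompIsoId C (1 : ℤ) (-1) (by norm_num)).inv.app X' ≫
      (f⟦(1 : ℤ)⟧' ≫ r)⟦(-1 : ℤ)⟧' = 0 := by
    rw [Functor.map_comp, ← Category.assoc]
    have nat' : f ≫ (shiftFunctorCompIsoId C (1 : ℤ) (-1) (by norm_num)).inv.app X =
        (shiftFunctorCompIsoId C (1 : ℤ) (-1) (by norm_num)).inv.app X' ≫
          (f⟦(1 : ℤ)⟧')⟦(-1 : ℤ)⟧' := nat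
    rw [← nat', Category.assoc]
    exact h
  have h2 : (f⟦(1 : ℤ)⟧' ≫ r)⟦(-1 : ℤ)⟧' = 0 := by
    have h3 := congrArg (fun t => (shiftFunctorCompIsoId C (1 : ℤ) (-1) (by norm_num)).hom.app X' ≫ t)
      h1
    simp only [comp_zero] at h3
    rw [← Category.assoc, Iso.hom_inv_id_app] at h3
    exact (Category.id_comp _).symm.trans h3
  apply (shiftFunctor C (-1 : ℤ)).map_injective
  rw [h2, Functor.map_zero]

end General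

variable {A : Type u} [CommRing A]

instance (J : Ideal A) (K : DRing.Cx A) : Mono (ιCx J K) := by
  have : ∀ i, Mono ((ιCx J K).f i) := fun i => by
    show Mono ((ISubι J).app (K.X i))
    infer_instance
  exact HomologicalComplex.mono_of_mono_f _ this

lemma vanishesOutside_ISubCx (J : Ideal A) (K : DRing.Cx A) (a b : ℤ)
    (hK : DRing.VanishesOutside K a b) : DRing.VanishesOutside ((ISubCx J).obj K) a b := by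
  intro i hi
  have h := hK i hi
  have : IsZero ((ISub J).obj (K.X i)) := Functor.map_isZero (ISub J) h
  exact this

lemma finite_ISubCx [IsNoetherianRing A] (J : Ideal A) (K : DRing.Cx A)
    (hfin : ∀ i : ℤ, Module.Finite A (K.X i)) (i : ℤ) :
    Module.Finite A (((ISubCx J).obj K).X i) := by
  have := hfin i
  show Module.Finite A ↥(J • (⊤ : Submodule A (K.X i)))
  infer_instance

variable [IsNoetherianRing A] (I : Ideal A)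

/-- vanishing on the `K`-side -/
theorem kside_vanish (K : DRing.Cx A) (a b : ℤ) (hK : DRing.VanishesOutside K a b)
    (hfin : ∀ i : ℤ, Module.Finite A (K.X i)) (J₁ : Ideal A) (Z : Dual.D A) (hZ : PowKills I Z)
    (D : Q.obj (K ⊗ (S0 A).obj (BMod J₁)) ⟶ Z) (hD : Q.map (qCx J₁ K) ≫ D = 0) :
    ∃ k : ℕ, ∀ (J₂ : Ideal A) (h : J₂ ≤ J₁), J₂ ≤ J₁ * I ^ k →
      Q.map (K ◁ (S0 A).map (trB h)) ≫ D = 0 := by
  have hS₁ := kSC_shortExact J₁ K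
  have hT := DerivedCategory.triangleOfSES_distinguished hS₁
  obtain ⟨δ₁, hδ₁⟩ : ∃ δ₁ : Q.obj (K ⊗ (S0 A).obj (BMod J₁)) ⟶
      (Q.obj ((ISubCx J₁).obj K))⟦(1 : ℤ)⟧, δ₁ = DerivedCategory.triangleOfSESδ hS₁ := ⟨_, rfl⟩
  obtain ⟨r, hr⟩ : ∃ r : (Q.obj ((ISubCx J₁).obj K))⟦(1 : ℤ)⟧ ⟶ Z, D = δ₁ ≫ r := by
    obtain ⟨r, hr⟩ := Triangle.yoneda_exact₃ _ hT D hD
    refine ⟨r, ?_⟩
    rw [hδ₁]
    exact hr
  have hE := vanishesOutside_ISubCx J₁ K a b hK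
  have hEfin := finite_ISubCx J₁ K hfin
  obtain ⟨k, hk⟩ := vcx I (Z⟦(-1 : ℤ)⟧) (powKills_shift I Z hZ (-1)) ((ISubCx J₁).obj K) a b hE
    hEfin ((shiftFunctorCompIsoId (Dual.D A) (1 : ℤ) (-1) (by norm_num)).inv.app _ ≫
      r⟦(-1 : ℤ)⟧')
  have hk' : (Q.map (ιCx (I ^ k) ((ISubCx J₁).obj K)))⟦(1 : ℤ)⟧' ≫ r = 0 :=
    shift_comp_eq_zero _ _ hk
  refine ⟨k, fun J₂ h h2 => ?_⟩
  have hS₂ := kSC_shortExact J₂ K
  obtain ⟨δ₂, hδ₂⟩ : ∃ δ₂ : Q.obj (K ⊗ (S0 A).obj (BMod J₂)) ⟶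
      (Q.obj ((ISubCx J₂).obj K))⟦(1 : ℤ)⟧, δ₂ = DerivedCategory.triangleOfSESδ hS₂ := ⟨_, rfl⟩
  have nat : δ₂ ≫ (Q.map (leCx h K))⟦(1 : ℤ)⟧' = Q.map (K ◁ (S0 A).map (trB h)) ≫ δ₁ := by
    rw [hδ₁, hδ₂]
    exact DerivedCategory.triangleOfSESδ_naturality hS₂ hS₁ (kSCMap K h)
  have hle : leCx h K = facCx J₁ (I ^ k) J₂ h2 K ≫ ιCx (I ^ k) ((ISubCx J₁).obj K) := by
    rw [← cancel_mono (ιCx J₁ K), Category.assoc, facCx_ι]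
    exact leCx_ι h K
  have e1 : (Q.map (leCx h K))⟦(1 : ℤ)⟧' ≫ r = 0 := by
    have h1 : Q.map (leCx h K) = Q.map (facCx J₁ (I ^ k) J₂ h2 K) ≫
        Q.map (ιCx (I ^ k) ((ISubCx J₁).obj K)) :=
      (congrArg (fun t => Q.map t) hle).trans (Q.map_comp _ _)
    have h2 : (Q.map (leCx h K))⟦(1 : ℤ)⟧' = (Q.map (facCx J₁ (I ^ k) J₂ h2 K))⟦(1 : ℤ)⟧' ≫
        (Q.map (ιCx (I ^ k) ((ISubCx J₁).obj K)))⟦(1 : ℤ)⟧' :=
      (congrArg (fun t => t⟦(1 : ℤ)⟧') h1).trans (Functor.map_comp _ _ _)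
    rw [h2, Category.assoc, hk', comp_zero]
  rw [hr, ← Category.assoc, ← nat, Category.assoc, e1, comp_zero]

omit [IsNoetherianRing A] in
lemma mem_powTop_of_mem_mul (J₁ : Ideal A) (k : ℕ) (y : ↥J₁) (hy : (y : A) ∈ I ^ k * J₁) :
    y ∈ powTop I k ↥J₁ := by
  have h1 : Submodule.map J₁.subtype (I ^ k • (⊤ : Submodule A ↥J₁)) = I ^ k • J₁ := by
    rw [Submodule.map_smul'', Submodule.map_subtype_top]
  have h2 : (y : A) ∈ Submodule.map J₁.subtype (I ^ k • (⊤ : Submodule A ↥J₁)) := by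
    rw [h1]
    exact hy
  obtain ⟨z, hz, hzy⟩ := h2
  have : z = y := Subtype.ext hzy
  rw [← this]
  exact hz

/-- the factorization `J₃ ⟶ I^k J₁` -/
noncomputable def facPow (J₁ J₃ : Ideal A) (k : ℕ) (h : J₃ ≤ J₁) (h3 : J₃ ≤ I ^ k * J₁) :
    ↥J₃ →ₗ[A] ↥(powTop I k ↥J₁) :=
  LinearMap.codRestrict _ (Submodule.inclusion h)
    (fun x => mem_powTop_of_mem_mul I J₁ k _ (h3 x.2))

omit [IsNoetherianRing A] in
lemma facPow_subtype (J₁ J₃ : Ideal A) (k : ℕ) (h : J₃ ≤ J₁) (h3 : J₃ ≤ I ^ k * J₁) :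
    ModuleCat.ofHom (facPow I J₁ J₃ k h h3) ≫ ModuleCat.ofHom (powTop I k ↥J₁).subtype =
      inclI h := by
  ext x
  rfl

/-- vanishing on the `P`-side -/
theorem pside_vanish (P : DRing.Cx A) (hflat : ∀ p : ℤ, Module.Flat A (P.X p))
    (hF : ∀ {X Y : DRing.Cx A} (u : X ⟶ Y), Q.map u = 0 → Q.map (P ◁ u) = 0)
    (J₁ : Ideal A) (Z : Dual.D A) (hZ : PowKills I Z)
    (D : Q.obj (P ⊗ (S0 A).obj (BMod J₁)) ⟶ Z) (hD : Q.map (qCx J₁ P) ≫ D = 0) :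
    ∃ k : ℕ, ∀ (J₃ : Ideal A) (h : J₃ ≤ J₁), J₃ ≤ I ^ k * J₁ →
      Q.map (P ◁ (S0 A).map (trB h)) ≫ D = 0 := by
  have hS₁ := pSC_shortExact P hflat J₁
  have hT := DerivedCategory.triangleOfSES_distinguished hS₁
  have hD' : Q.map (P ◁ πBCx J₁) ≫ D = 0 := by
    have h1 : Q.map (qCx J₁ P) = Q.map (ρ_ P).inv ≫ Q.map (P ◁ πBCx J₁) := Q.map_comp _ _
    rw [h1, Category.assoc] at hD
    have : IsIso (Q.map (ρ_ P).inv) := inferInstance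
    exact (cancel_epi (Q.map (ρ_ P).inv)).1 (hD.trans comp_zero.symm)
  obtain ⟨δ₁, hδ₁⟩ : ∃ δ₁ : Q.obj (P ⊗ (S0 A).obj (BMod J₁)) ⟶
      (Q.obj (P ⊗ (S0 A).obj (ModuleCat.of A ↥J₁)))⟦(1 : ℤ)⟧,
      δ₁ = DerivedCategory.triangleOfSESδ hS₁ := ⟨_, rfl⟩
  obtain ⟨r, hr⟩ : ∃ r : (Q.obj (P ⊗ (S0 A).obj (ModuleCat.of A ↥J₁)))⟦(1 : ℤ)⟧ ⟶ Z,
      D = δ₁ ≫ r := by
    obtain ⟨r, hr⟩ := Triangle.yoneda_exact₃ _ hT D hD'
    refine ⟨r, ?_⟩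
    rw [hδ₁]
    exact hr
  obtain ⟨k, hk⟩ := vstar I P hF (Z⟦(-1 : ℤ)⟧) (powKills_shift I Z hZ (-1)) ↥J₁
    ((shiftFunctorCompIsoId (Dual.D A) (1 : ℤ) (-1) (by norm_num)).inv.app _ ≫ r⟦(-1 : ℤ)⟧')
  have hk' : (Q.map (P ◁ (S0 A).map (ModuleCat.ofHom (powTop I k ↥J₁).subtype)))⟦(1 : ℤ)⟧' ≫ r =
      0 := shift_comp_eq_zero _ _ hk
  refine ⟨k, fun J₃ h h3 => ?_⟩
  have hS₃ := pSC_shortExact P hflat J₃
  obtain ⟨δ₃, hδ₃⟩ : ∃ δ₃ : Q.obj (P ⊗ (S0 A).obj (BMod J₃)) ⟶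
      (Q.obj (P ⊗ (S0 A).obj (ModuleCat.of A ↥J₃)))⟦(1 : ℤ)⟧,
      δ₃ = DerivedCategory.triangleOfSESδ hS₃ := ⟨_, rfl⟩
  have nat : δ₃ ≫ (Q.map (P ◁ (S0 A).map (inclI h)))⟦(1 : ℤ)⟧' =
      Q.map (P ◁ (S0 A).map (trB h)) ≫ δ₁ := by
    rw [hδ₁, hδ₃]
    exact DerivedCategory.triangleOfSESδ_naturality hS₃ hS₁ (pSCMap P h)
  have e1 : (Q.map (P ◁ (S0 A).map (inclI h)))⟦(1 : ℤ)⟧' ≫ r = 0 := by
    have h0 : P ◁ (S0 A).map (inclI h) =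
        P ◁ (S0 A).map (ModuleCat.ofHom (facPow I J₁ J₃ k h h3)) ≫
          P ◁ (S0 A).map (ModuleCat.ofHom (powTop I k ↥J₁).subtype) := by
      rw [← MonoidalCategory.whiskerLeft_comp, ← Functor.map_comp, facPow_subtype]
    have h1 : Q.map (P ◁ (S0 A).map (inclI h)) =
        Q.map (P ◁ (S0 A).map (ModuleCat.ofHom (facPow I J₁ J₃ k h h3))) ≫
          Q.map (P ◁ (S0 A).map (ModuleCat.ofHom (powTop I k ↥J₁).subtype)) :=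
      (congrArg (fun t => Q.map t) h0).trans (Q.map_comp _ _)
    have h2 : (Q.map (P ◁ (S0 A).map (inclI h)))⟦(1 : ℤ)⟧' =
        (Q.map (P ◁ (S0 A).map (ModuleCat.ofHom (facPow I J₁ J₃ k h h3))))⟦(1 : ℤ)⟧' ≫
          (Q.map (P ◁ (S0 A).map (ModuleCat.ofHom (powTop I k ↥J₁).subtype)))⟦(1 : ℤ)⟧' :=
      (congrArg (fun t => t⟦(1 : ℤ)⟧') h1).trans (Functor.map_comp _ _ _)
    rw [h2, Category.assoc, hk', comp_zero]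
  rw [hr, ← Category.assoc, ← nat, Category.assoc, e1, comp_zero]

section Abstract

variable {C : Type*} [Category C] [Preadditive C]

lemma abstract_h1 {QP QK XJ YJ YJ1 : C} (π : QP ⟶ QK) [IsIso π]
    (cJ : QP ⟶ XJ) (qJ : QK ⟶ YJ) (aJ : XJ ⟶ YJ) (qJ1 : QK ⟶ YJ1) (tY1 : YJ1 ⟶ YJ)
    (b : YJ1 ⟶ XJ) (hc : cJ ≫ aJ = π ≫ qJ) (hqq : qJ1 ≫ tY1 = qJ)
    (hb : qJ1 ≫ b = inv π ≫ cJ) : qJ1 ≫ (b ≫ aJ - tY1) = 0 := by
  rw [Preadditive.comp_sub, ← Category.assoc, hb, Category.assoc, hc, hqq,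
    IsIso.inv_hom_id_assoc, sub_self]

lemma abstract_h2 {QP QK XJ XJ1 YJ1 : C} (π : QP ⟶ QK) [IsIso π]
    (cJ : QP ⟶ XJ) (cJ1 : QP ⟶ XJ1) (qJ1 : QK ⟶ YJ1) (aJ1 : XJ1 ⟶ YJ1) (tX1 : XJ1 ⟶ XJ)
    (b : YJ1 ⟶ XJ) (hc1 : cJ1 ≫ aJ1 = π ≫ qJ1) (hcq : cJ1 ≫ tX1 = cJ)
    (hb : qJ1 ≫ b = inv π ≫ cJ) : cJ1 ≫ (aJ1 ≫ b - tX1) = 0 := by
  rw [Preadditive.comp_sub, ← Category.assoc, hc1, Category.assoc, hb, hcq,
    IsIso.hom_inv_id_assoc, sub_self]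

lemma abstract_final {XJ YJ XJ1 YJ1 XJ' YJ' : C}
    (aJ : XJ ⟶ YJ) (aJ1 : XJ1 ⟶ YJ1) (aJ' : XJ' ⟶ YJ')
    (tX1 : XJ1 ⟶ XJ) (tY1 : YJ1 ⟶ YJ) (tX' : XJ' ⟶ XJ1) (tY' : YJ' ⟶ YJ1)
    (tX : XJ' ⟶ XJ) (tY : YJ' ⟶ YJ)
    (hX : tX' ≫ tX1 = tX) (hY : tY' ≫ tY1 = tY)
    (ha' : aJ' ≫ tY' = tX' ≫ aJ1)
    (b : YJ1 ⟶ XJ)
    (e1 : tY' ≫ (b ≫ aJ - tY1) = 0)
    (e2 : tX' ≫ (aJ1 ≫ b - tX1) = 0) :
    aJ' ≫ (tY' ≫ b) = tX ∧ (tY' ≫ b) ≫ aJ = tY := by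
  rw [Preadditive.comp_sub, sub_eq_zero] at e1 e2
  constructor
  · rw [← Category.assoc, ha', Category.assoc, e2, hX]
  · rw [Category.assoc, e1, hY]

end Abstract

omit [IsNoetherianRing A] in
lemma powKills_tensor_BMod (F : DRing.Cx A) (J : Ideal A) (j : ℕ) (hj : I ^ j ≤ J) :
    PowKills I (Q.obj (F ⊗ (S0 A).obj (BMod J))) := by
  refine ⟨j, fun x hx => ?_⟩
  have h1 : x • 𝟙 (BMod J) = 0 := by
    apply ModuleCat.hom_ext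
    apply LinearMap.ext
    intro y
    obtain ⟨z, rfl⟩ := Submodule.Quotient.mk_surjective _ y
    show x • (Submodule.Quotient.mk z : A ⧸ (J • ⊤ : Submodule A A)) = 0
    rw [← Submodule.Quotient.mk_smul, Submodule.Quotient.mk_eq_zero, smul_eq_mul, smul_eq_mul,
      Ideal.mul_top]
    exact Ideal.mul_mem_right _ _ (hj hx)
  have h2 : x • 𝟙 ((S0 A).obj (BMod J)) = 0 := by
    have h := S0_map_smul x (𝟙 (BMod J))
    rw [h1, Functor.map_zero, CategoryTheory.Functor.map_id] at h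
    exact h.symm
  have h3 : x • 𝟙 (F ⊗ (S0 A).obj (BMod J)) = 0 := by
    have h := whiskerLeft_smul_cx x F (𝟙 ((S0 A).obj (BMod J)))
    have h0 := whiskerLeft_smul_cx (0 : A) F (𝟙 ((S0 A).obj (BMod J)))
    rw [zero_smul, zero_smul] at h0
    rw [h2, h0, MonoidalCategory.whiskerLeft_id] at h
    exact h.symm
  have h4 : x • 𝟙 (Q.obj (F ⊗ (S0 A).obj (BMod J))) =
      Q.map (x • 𝟙 (F ⊗ (S0 A).obj (BMod J))) := by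
    rw [Functor.map_smul, CategoryTheory.Functor.map_id]
  rw [h4, h3, Functor.map_zero]

/-- the complex-level pro-isomorphism -/
theorem main_cx (P K : DRing.Cx A) (π : P ⟶ K) [QuasiIso π]
    (hflat : ∀ p : ℤ, Module.Flat A (P.X p))
    (hF : ∀ {X Y : DRing.Cx A} (u : X ⟶ Y), Q.map u = 0 → Q.map (P ◁ u) = 0)
    (a b : ℤ) (hK : DRing.VanishesOutside K a b) (hfin : ∀ i : ℤ, Module.Finite A (K.X i))
    (J : Ideal A) (j : ℕ) (hj : I ^ j ≤ J) :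
    ∃ k₀ : ℕ, ∀ (J' : Ideal A) (h : J' ≤ J), J' ≤ I ^ k₀ →
      ∃ β : Q.obj (K ⊗ (S0 A).obj (BMod J')) ⟶ Q.obj (P ⊗ (S0 A).obj (BMod J)),
        Q.map (π ▷ (S0 A).obj (BMod J')) ≫ β = Q.map (P ◁ (S0 A).map (trB h)) ∧
        β ≫ Q.map (π ▷ (S0 A).obj (BMod J)) = Q.map (K ◁ (S0 A).map (trB h)) := by
  have hXJ := powKills_tensor_BMod I P J j hj
  have hYJ := powKills_tensor_BMod I K J j hj
  have hπ : IsIso (Q.map π) := inferInstance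
  -- Step 1
  obtain ⟨k₁, hk₁⟩ := vcx I _ hXJ K a b hK hfin (inv (Q.map π) ≫ Q.map (qCx J P))
  have hJ₁k : I ^ (k₁ + j) ≤ I ^ k₁ := Ideal.pow_le_pow_right (Nat.le_add_right _ _)
  have hJ₁J : I ^ (k₁ + j) ≤ J := (Ideal.pow_le_pow_right (Nat.le_add_left _ _)).trans hj
  have hS₁ := kSC_shortExact (I ^ (k₁ + j)) K
  have hT := DerivedCategory.triangleOfSES_distinguished hS₁
  have h0 : Q.map (ιCx (I ^ (k₁ + j)) K) ≫ (inv (Q.map π) ≫ Q.map (qCx J P)) = 0 := by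
    have h1 : Q.map (ιCx (I ^ (k₁ + j)) K) = Q.map (leCx hJ₁k K) ≫ Q.map (ιCx (I ^ k₁) K) :=
      (congrArg (fun t => Q.map t) (leCx_ι hJ₁k K).symm).trans (Q.map_comp _ _)
    rw [h1, Category.assoc, hk₁, comp_zero]
  obtain ⟨b₁, hb₁⟩ : ∃ b₁ : Q.obj (K ⊗ (S0 A).obj (BMod (I ^ (k₁ + j)))) ⟶
      Q.obj (P ⊗ (S0 A).obj (BMod J)),
      Q.map (qCx (I ^ (k₁ + j)) K) ≫ b₁ = inv (Q.map π) ≫ Q.map (qCx J P) := by
    obtain ⟨b₁, hb₁⟩ := Triangle.yoneda_exact₂ _ hT _ h0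
    exact ⟨b₁, hb₁.symm⟩
  -- the relations
  have hc : Q.map (qCx J P) ≫ Q.map (π ▷ (S0 A).obj (BMod J)) = Q.map π ≫ Q.map (qCx J K) := by
    rw [← Q.map_comp, ← Q.map_comp, qCx_naturality]
  have hc1 : Q.map (qCx (I ^ (k₁ + j)) P) ≫ Q.map (π ▷ (S0 A).obj (BMod (I ^ (k₁ + j)))) =
      Q.map π ≫ Q.map (qCx (I ^ (k₁ + j)) K) := by
    rw [← Q.map_comp, ← Q.map_comp, qCx_naturality]
  have hqq : Q.map (qCx (I ^ (k₁ + j)) K) ≫ Q.map (K ◁ (S0 A).map (trB hJ₁J)) =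
      Q.map (qCx J K) := by
    rw [← Q.map_comp, qCx_trB]
  have hcq : Q.map (qCx (I ^ (k₁ + j)) P) ≫ Q.map (P ◁ (S0 A).map (trB hJ₁J)) =
      Q.map (qCx J P) := by
    rw [← Q.map_comp, qCx_trB]
  have hD₁ := abstract_h1 (Q.map π) (Q.map (qCx J P)) (Q.map (qCx J K))
    (Q.map (π ▷ (S0 A).obj (BMod J))) (Q.map (qCx (I ^ (k₁ + j)) K))
    (Q.map (K ◁ (S0 A).map (trB hJ₁J))) b₁ hc hqq hb₁
  have hD₂ := abstract_h2 (Q.map π) (Q.map (qCx J P)) (Q.map (qCx (I ^ (k₁ + j)) P))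
    (Q.map (qCx (I ^ (k₁ + j)) K)) (Q.map (π ▷ (S0 A).obj (BMod (I ^ (k₁ + j)))))
    (Q.map (P ◁ (S0 A).map (trB hJ₁J))) b₁ hc1 hcq hb₁
  -- Steps 2, 3
  obtain ⟨k₂, hk₂⟩ := kside_vanish I K a b hK hfin (I ^ (k₁ + j)) _ hYJ _ hD₁
  obtain ⟨k₃, hk₃⟩ := pside_vanish I P hflat hF (I ^ (k₁ + j)) _ hXJ _ hD₂
  refine ⟨(k₁ + j) + k₂ + k₃, fun J' h h' => ?_⟩
  have hle1 : I ^ ((k₁ + j) + k₂ + k₃) ≤ I ^ (k₁ + j) :=
    Ideal.pow_le_pow_right (by omega)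
  have hle2 : I ^ ((k₁ + j) + k₂ + k₃) ≤ I ^ (k₁ + j) * I ^ k₂ := by
    rw [← pow_add]
    exact Ideal.pow_le_pow_right (by omega)
  have hle3 : I ^ ((k₁ + j) + k₂ + k₃) ≤ I ^ k₃ * I ^ (k₁ + j) := by
    rw [← pow_add]
    exact Ideal.pow_le_pow_right (by omega)
  have hJ'J₁ : J' ≤ I ^ (k₁ + j) := h'.trans hle1
  have e1 := hk₂ J' hJ'J₁ (h'.trans hle2)
  have e2 := hk₃ J' hJ'J₁ (h'.trans hle3)
  have hX : Q.map (P ◁ (S0 A).map (trB hJ'J₁)) ≫ Q.map (P ◁ (S0 A).map (trB hJ₁J)) =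
      Q.map (P ◁ (S0 A).map (trB h)) := by
    rw [← Q.map_comp, ← MonoidalCategory.whiskerLeft_comp, ← Functor.map_comp, trB_comp]
  have hY : Q.map (K ◁ (S0 A).map (trB hJ'J₁)) ≫ Q.map (K ◁ (S0 A).map (trB hJ₁J)) =
      Q.map (K ◁ (S0 A).map (trB h)) := by
    rw [← Q.map_comp, ← MonoidalCategory.whiskerLeft_comp, ← Functor.map_comp, trB_comp]
  have ha' : Q.map (π ▷ (S0 A).obj (BMod J')) ≫ Q.map (K ◁ (S0 A).map (trB hJ'J₁)) =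
      Q.map (P ◁ (S0 A).map (trB hJ'J₁)) ≫ Q.map (π ▷ (S0 A).obj (BMod (I ^ (k₁ + j)))) := by
    rw [← Q.map_comp, ← Q.map_comp, MonoidalCategory.whisker_exchange]
  exact ⟨Q.map (K ◁ (S0 A).map (trB hJ'J₁)) ≫ b₁,
    abstract_final (Q.map (π ▷ (S0 A).obj (BMod J)))
      (Q.map (π ▷ (S0 A).obj (BMod (I ^ (k₁ + j))))) (Q.map (π ▷ (S0 A).obj (BMod J')))
      (Q.map (P ◁ (S0 A).map (trB hJ₁J))) (Q.map (K ◁ (S0 A).map (trB hJ₁J)))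
      (Q.map (P ◁ (S0 A).map (trB hJ'J₁))) (Q.map (K ◁ (S0 A).map (trB hJ'J₁)))
      (Q.map (P ◁ (S0 A).map (trB h))) (Q.map (K ◁ (S0 A).map (trB h)))
      hX hY ha' b₁ e1 e2⟩

end Groth.Agent.H35.LTP
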