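import Mathlib
import Groth.Agent.H35.LTP.MainCx
import Groth.Agent.H35.ProjRes
import Groth.Agent.H18.TorBalance
import Groth.Prelude.Def_DTen
import Groth.Prelude.Def_DerCA
import Groth.Prelude.Def_ega3

/-!
# The pro-isomorphism `K ⊗^L A/I^n → K ⊗ A/I^n` (helper35, S13579)
-/

set_option autoImplicit false
universe u

open CategoryTheory CategoryTheory.Limits MonoidalCategory Opposite

namespace Groth.Agent.H35.LTP

open DerivedCategory DTen Groth.Agent.H35.LTI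

attribute [local instance] HasDerivedCategory.standard

variable {A : Type u} [CommRing A]

/-- naturality of the counit, in explicit form -/
lemma ε_nat [DTen.HasLTen A] {K₁ K₂ L₁ L₂ : DRing.Cx A} (f : K₁ ⟶ K₂) (g : L₁ ⟶ L₂) :
    (DTen.LTen₂ A).map (Prod.mkHom (Q.map f) (Q.map g)) ≫ (DTen.ε A).app (K₂, L₂) =
      (DTen.ε A).app (K₁, L₁) ≫ Q.map (f ▷ L₁ ≫ K₂ ◁ g) := by
  have e := (DTen.ε A).naturality (Prod.mkHom f g : (K₁, L₁) ⟶ (K₂, L₂))
  dsimp at e
  exact e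

lemma ε_nat_left [DTen.HasLTen A] {K₁ K₂ : DRing.Cx A} (f : K₁ ⟶ K₂) (L : DRing.Cx A) :
    (DTen.LTen₂ A).map (Prod.mkHom (Q.map f) (𝟙 (Q.obj L))) ≫ (DTen.ε A).app (K₂, L) =
      (DTen.ε A).app (K₁, L) ≫ Q.map (f ▷ L) := by
  have h := ε_nat f (𝟙 L)
  simp only [MonoidalCategory.whiskerLeft_id, Category.comp_id, CategoryTheory.Functor.map_id]
    at h
  exact h

lemma ε_nat_right [DTen.HasLTen A] (K : DRing.Cx A) {L₁ L₂ : DRing.Cx A} (g : L₁ ⟶ L₂) :
    (DTen.LTen₂ A).map (Prod.mkHom (𝟙 (Q.obj K)) (Q.map g)) ≫ (DTen.ε A).app (K, L₂) =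
      (DTen.ε A).app (K, L₁) ≫ Q.map (K ◁ g) := by
  have h := ε_nat (𝟙 K) g
  simp only [MonoidalCategory.id_whiskerRight, Category.id_comp, CategoryTheory.Functor.map_id]
    at h
  exact h

/-- tensoring with a K-flat complex preserves zero maps of `D(A)` -/
lemma whiskerLeft_zero_of_kflat [DTen.HasLTen A] [DTen.KFlatComputes A] (P : DRing.Cx A)
    (hP : DRing.IsKFlat A P) {X Y : DRing.Cx A} (u : X ⟶ Y) (hu : Q.map u = 0) :
    Q.map (P ◁ u) = 0 := by
  have : IsIso ((DTen.ε A).app (P, X)) := DTen.KFlatComputes.isIso_counit _ _ (Or.inl hP)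
  have n1 := ε_nat_right P u
  have n2 := ε_nat_right P (0 : X ⟶ Y)
  rw [hu] at n1
  rw [Functor.map_zero] at n2
  have h0 : P ◁ (0 : X ⟶ Y) = 0 := by
    have h := whiskerLeft_smul_cx (0 : A) P (0 : X ⟶ Y)
    rw [zero_smul, zero_smul] at h
    exact h
  rw [h0, Functor.map_zero, comp_zero] at n2
  rw [n2] at n1
  rw [← cancel_epi ((DTen.ε A).app (P, X)), ← n1, comp_zero]

/-- transport of the complex-level pro-inverse to `LTen₂` -/
lemma transport [DTen.HasLTen A] {P K : DRing.Cx A} (π : P ⟶ K) [IsIso (Q.map π)]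
    {L' L : DRing.Cx A} (t : L' ⟶ L) [IsIso ((DTen.ε A).app (P, L))]
    (β : Q.obj (K ⊗ L') ⟶ Q.obj (P ⊗ L))
    (h1 : Q.map (π ▷ L') ≫ β = Q.map (P ◁ t)) (h2 : β ≫ Q.map (π ▷ L) = Q.map (K ◁ t)) :
    (DTen.ε A).app (K, L') ≫ (β ≫ inv ((DTen.ε A).app (P, L)) ≫
        (DTen.LTen₂ A).map (Prod.mkHom (Q.map π) (𝟙 (Q.obj L)))) =
      (DTen.LTen₂ A).map (Prod.mkHom (𝟙 (Q.obj K)) (Q.map t)) ∧
    (β ≫ inv ((DTen.ε A).app (P, L)) ≫
        (DTen.LTen₂ A).map (Prod.mkHom (Q.map π) (𝟙 (Q.obj L)))) ≫ (DTen.ε A).app (K, L) =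
      Q.map (K ◁ t) := by
  constructor
  · have hiso : IsIso ((DTen.LTen₂ A).map (Prod.mkHom (Q.map π) (𝟙 (Q.obj L')))) := by
      have : IsIso (Prod.mkHom (Q.map π) (𝟙 (Q.obj L')) :
          (Q.obj P, Q.obj L') ⟶ (Q.obj K, Q.obj L')) := by
        rw [CategoryTheory.isIso_prod_iff]
        exact ⟨inferInstanceAs (IsIso (Q.map π)), inferInstanceAs (IsIso (𝟙 (Q.obj L')))⟩
      infer_instance
    rw [← cancel_epi ((DTen.LTen₂ A).map (Prod.mkHom (Q.map π) (𝟙 (Q.obj L'))))]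
    rw [← Category.assoc, ε_nat_left, Category.assoc, ← Category.assoc (Q.map (π ▷ L')), h1,
      ← Category.assoc, ← ε_nat_right, Category.assoc, IsIso.hom_inv_id_assoc,
      ← Functor.map_comp, ← Functor.map_comp]
    congr 1
  · rw [Category.assoc, Category.assoc, ε_nat_left, IsIso.inv_hom_id_assoc, h2]

lemma trB_refl (J : Ideal A) : trB (le_refl J) = 𝟙 (BMod J) := by
  rw [← cancel_epi (πB J), πB_trB, Category.comp_id]

/-- the transition maps of the adic system of `A` -/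
lemma adicSystem_map (I : Ideal A) (n m : ℕ) (h : n ≤ m) :
    (CohIII.adicSystem I (ModuleCat.of A A)).map (homOfLE h).op =
      trB (Ideal.pow_le_pow_right (Nat.succ_le_succ h)) := by
  induction m, h using Nat.le_induction with
  | base =>
    have h0 : (homOfLE (le_refl n)).op = 𝟙 (op n) := rfl
    rw [h0, CategoryTheory.Functor.map_id]
    exact (trB_refl _).symm
  | succ m h ih =>
    have h0 : (homOfLE (h.trans (Nat.le_succ m))).op =
        (homOfLE (Nat.le_succ m)).op ≫ (homOfLE h).op := rfl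
    rw [h0, Functor.map_comp, ih]
    unfold CohIII.adicSystem
    rw [Functor.ofOpSequence_map_homOfLE_succ]
    exact trB_comp (Ideal.pow_le_pow_right (Nat.le_succ (m + 1)))
      (Ideal.pow_le_pow_right (Nat.succ_le_succ h))

/-- the complex-level form of S13579 -/
theorem main_LTen (A : Type u) [CommRing A] [IsNoetherianRing A]
    [DTen.HasLTen A] [DTen.KFlatComputes A] (I : Ideal A) (K : DRing.Cx A) (a b : ℤ)
    (hK : DRing.VanishesOutside K a b) (hKf : ∀ i : ℤ, Module.Finite A (K.X i)) (n : ℕ) :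
    ∃ (m : ℕ) (h : n ≤ m)
      (bb : Q.obj (K ⊗ (S0 A).obj (BMod (I ^ (m + 1)))) ⟶
        (DTen.LTen₂ A).obj (Q.obj K, Q.obj ((S0 A).obj (BMod (I ^ (n + 1)))))),
      (DTen.ε A).app (K, (S0 A).obj (BMod (I ^ (m + 1)))) ≫ bb =
        (DTen.LTen₂ A).map (Prod.mkHom (𝟙 (Q.obj K))
          (Q.map ((S0 A).map (trB (Ideal.pow_le_pow_right (Nat.succ_le_succ h)))))) ∧
      bb ≫ (DTen.ε A).app (K, (S0 A).obj (BMod (I ^ (n + 1)))) =
        Q.map (K ◁ (S0 A).map (trB (Ideal.pow_le_pow_right (Nat.succ_le_succ h)))) := by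
  have hLE : K.IsStrictlyLE b := by
    rw [CochainComplex.isStrictlyLE_iff]
    intro i hi
    exact hK i (Or.inr hi)
  obtain ⟨P, π, hπ, hproj, hPLE⟩ := Groth.Agent.H35.exists_quasiIso_projective K b
  have hflat : ∀ p : ℤ, Module.Flat A (P.X p) := fun p =>
    Groth.Agent.H18.flat_of_projective _
  have hKF : DRing.IsKFlat A P := Groth.Agent.H35.KF.isKFlat_of_isStrictlyLE P b hflat
  have hF : ∀ {X Y : DRing.Cx A} (u : X ⟶ Y), Q.map u = 0 → Q.map (P ◁ u) = 0 :=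
    fun u hu => whiskerLeft_zero_of_kflat P hKF u hu
  obtain ⟨k₀, hk₀⟩ := main_cx I P K π hflat hF a b hK hKf (I ^ (n + 1)) (n + 1) le_rfl
  have hnm : n ≤ n + k₀ := Nat.le_add_right _ _
  have hle : I ^ (n + k₀ + 1) ≤ I ^ (n + 1) := Ideal.pow_le_pow_right (Nat.succ_le_succ hnm)
  have hle' : I ^ (n + k₀ + 1) ≤ I ^ k₀ := Ideal.pow_le_pow_right (by omega)
  obtain ⟨β, hβ1, hβ2⟩ := hk₀ (I ^ (n + k₀ + 1)) hle hle'
  have : IsIso ((DTen.ε A).app (P, (S0 A).obj (BMod (I ^ (n + 1))))) :=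
    DTen.KFlatComputes.isIso_counit _ _ (Or.inl hKF)
  have : IsIso (Q.map π) := inferInstance
  obtain ⟨t1, t2⟩ := transport π ((S0 A).map (trB hle)) β hβ1 hβ2
  exact ⟨n + k₀, hnm, _, t1, t2⟩

end Groth.Agent.H35.LTP
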